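import Groth.Agent.Lib.Ample18.Gen
import Groth.Agent.Lib.SemiFactApp32.Basic
import Groth.Agent.Lib.ModM1.Loc
import Groth.Agent.Lib.TensorMod.Invertible
import Groth.Prelude.Def_PicLoc
import Groth.Agent.Lib.Twist.Pullback
import Groth.Prelude.Def_Neron

/-!
# Sections of invertible modules on flat schemes over discrete valuation rings

A generator on the generic fibre extends, after scaling by a power of a uniformizer and then dividing as far
as possible, to a global section which generates also at some point of the (reduced) special fibre.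
-/

set_option autoImplicit false
set_option linter.style.haveILetI false
set_option linter.unusedSectionVars false
set_option backward.isDefEq.respectTransparency false
set_option maxHeartbeats 800000

universe u

open CategoryTheory CategoryTheory.Limits AlgebraicGeometry TopologicalSpace Opposite

noncomputable section

namespace Groth.Agent.SemiTriv14

open Groth.Agent.M2 (IsGenerator res)
open Groth.Agent.SemiFactApp32 (ρ ρ_res basicOpen_ρ eq_zero_of_mul)

variable {R : Type u} [CommRing R] [IsDomain R] [IsDiscreteValuationRing R]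
  {X : Scheme.{u}} (f : X ⟶ Spec (CommRingCat.of R)) {L : X.Modules} {ϖ : R}

/-- The locus where `ϖ` is invertible. -/
abbrev genOpen (ϖ : R) : X.Opens := f ⁻¹ᵁ (PrimeSpectrum.basicOpen ϖ : (Spec (CommRingCat.of R)).Opens)

theorem mem_genOpen_iff (hϖ : Irreducible ϖ) (x : X) : x ∈ genOpen f ϖ ↔ f x ≠ IsLocalRing.closedPoint R := by
  show ϖ ∉ (f x : PrimeSpectrum R).asIdeal ↔ (f x : PrimeSpectrum R) ≠ IsLocalRing.closedPoint R
  refine ⟨fun h e => h ?_, fun h h' => h ?_⟩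
  · rw [e]
    exact (IsLocalRing.mem_maximalIdeal _).2 hϖ.not_isUnit
  · refine PrimeSpectrum.ext (le_antisymm (IsLocalRing.le_maximalIdeal (f x : PrimeSpectrum R).isPrime.ne_top) ?_)
    show IsLocalRing.maximalIdeal R ≤ _
    rw [hϖ.maximalIdeal_eq, Ideal.span_singleton_le_iff_mem]
    exact h'

theorem mem_basicOpen_ρ {W : X.Opens} (x : X) (hx : x ∈ W) :
    IsUnit (X.presheaf.germ W x hx (ρ f W ϖ)) ↔ x ∈ genOpen f ϖ := by
  rw [← Scheme.mem_basicOpen X _ x hx, basicOpen_ρ f W ϖ]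
  exact ⟨fun h => h.2, fun h => ⟨hx, h⟩⟩

theorem germ_ρ {W : X.Opens} (x : X) (hx : x ∈ W) (c : R) :
    X.presheaf.germ W x hx (ρ f W c) = X.presheaf.germ ⊤ x trivial (ρ f ⊤ c) := by
  rw [← ρ_res f (le_top : W ≤ ⊤) c, TopCat.Presheaf.germ_res_apply]

/-- A generator on the generic open from triviality on the generic fibre. -/
theorem exists_gen_generic (hϖ : Irreducible ϖ)
    (hgen : Nonempty ((Scheme.Modules.pullback (pullback.fst f (Neron.genPt R))).obj L ≅
      Coh.structureModule (pullback f (Neron.genPt R)))) :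
    ∃ s : Γ(L, genOpen f ϖ), ∀ x (hx : x ∈ genOpen f ϖ), Amp.Gen (Amp.gm L x hx s) := by
  obtain ⟨e₀⟩ := hgen
  haveI : IsOpenImmersion (Neron.genPt R) := NeronCrit19.isOpenImmersion_genPt
  let j := pullback.fst f (Neron.genPt R)
  have hrange : Set.range (genOpen f ϖ).ι = Set.range j := by
    rw [Scheme.Opens.range_ι, Scheme.Pullback.range_fst, RelMin.range_genPt]
    refine Set.ext fun x => (mem_genOpen_iff f hϖ x).trans ?_
    rw [Set.mem_preimage, Set.mem_singleton_iff]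
    refine ⟨fun h => ?_, fun h h' => ?_⟩
    · refine PrimeSpectrum.ext ?_
      by_contra hne
      have hmax := (f x : PrimeSpectrum R).isPrime.isMaximal hne
      exact h (PrimeSpectrum.ext (IsLocalRing.eq_maximalIdeal hmax))
    · have h1 : ϖ ∈ (f x : PrimeSpectrum R).asIdeal := h' ▸ (IsLocalRing.mem_maximalIdeal _).2 hϖ.not_isUnit
      rw [show (f x : PrimeSpectrum R) = RelMin.gen R from h] at h1
      exact hϖ.ne_zero (Ideal.mem_bot.1 h1)
  let i := IsOpenImmersion.isoOfRangeEq (genOpen f ϖ).ι j hrange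
  have hi : i.hom ≫ j = (genOpen f ϖ).ι := IsOpenImmersion.isoOfRangeEq_hom_fac _ _ _
  obtain ⟨e, he⟩ := M2.exists_generator (M := L) (U := genOpen f ϖ)
    ((Scheme.Modules.restrictFunctorIsoPullback (genOpen f ϖ).ι).app L ≪≫
      (Scheme.Modules.pullbackCongr hi.symm).app L ≪≫ ((Scheme.Modules.pullbackComp i.hom j).app L).symm ≪≫
      (Scheme.Modules.pullback i.hom).mapIso e₀ ≪≫ PicLoc.pullbackStructureIso i.hom)
  exact ⟨e, fun x hx => Amp.gen_of_isGenerator he hx⟩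

/-- Some power of the uniformizer times a generator on the generic open extends. -/
theorem exists_gen_extension [CompactSpace X] [QuasiSeparatedSpace X] (hL : PicF.IsInvertible L)
    (s : Γ(L, genOpen f ϖ)) (hs : ∀ x (hx : x ∈ genOpen f ϖ), Amp.Gen (Amp.gm L x hx s)) :
    ∃ t : Γ(L, ⊤), ∀ x ∈ genOpen f ϖ, Amp.Gen (Amp.gm L x (U := ⊤) trivial t) := by
  haveI : Coh.IsQCoh L := Twist.isQCoh_of_isInvertible hL
  let a : Γ(X, ⊤) := ρ f ⊤ ϖ
  have hD : X.basicOpen a = genOpen f ϖ := (basicOpen_ρ f ⊤ ϖ).trans (top_inf_eq _)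
  obtain ⟨k, t, ht⟩ := M1.locSurj_of_isCompact L a (U := ⊤) isCompact_univ
    (res L (inf_le_right.trans hD.le : ⊤ ⊓ X.basicOpen a ≤ genOpen f ϖ) s)
  refine ⟨t, fun x hx => ?_⟩
  have hx' : x ∈ ⊤ ⊓ X.basicOpen a := ⟨trivial, hD.ge hx⟩
  have ht' : Amp.gm L x hx' (res L inf_le_left t) = Amp.gm L x hx'
      (M1.rs (⊤ ⊓ X.basicOpen a) a ^ k • res L (inf_le_right.trans hD.le) s) := congrArg (Amp.gm L x hx') ht
  rw [Amp.gm_res, Amp.gm_smul, Amp.gm_res, map_pow, M1.rs, TopCat.Presheaf.germ_res_apply] at ht'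
  rw [ht', (hs x hx).ne_zero_smul]
  exact ((mem_basicOpen_ρ f x (W := ⊤) trivial).2 hx).pow k

/-- Sections of an invertible module have no torsion. -/
theorem eq_zero_of_smul [Flat f] (hL : PicF.IsInvertible L) (hϖ : Irreducible ϖ) {W : X.Opens} (s : Γ(L, W))
    (h : ρ f W ϖ • s = 0) : s = 0 := by
  refine Amp.eq_of_gm fun x hx => ?_
  obtain ⟨U, e, hxU, hUW, -, he⟩ := Amp.exists_isGenerator hL (V := W) hx
  obtain ⟨c, hc⟩ := Amp.exists_coeff he (res L hUW s)
  have h1 : (ρ f U ϖ * c) • res L le_rfl e = (0 : Γ(X, U)) • res L le_rfl e := by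
    rw [mul_smul, zero_smul, Amp.res_self, hc, ← ρ_res f hUW ϖ, ← Amp.res_smul, h]
    exact map_zero _
  have hc0 : c = 0 := eq_zero_of_mul f hϖ.ne_zero U c ((he U le_rfl).1 h1)
  rw [← Amp.gm_res hUW hxU s, ← hc, hc0, zero_smul]
  exact (map_zero _).trans (map_zero _).symm

/-- A section which generates nowhere on the reduced special fibre is divisible by the uniformizer. -/
theorem exists_div [Flat f] [IsReduced (f.fiber (IsLocalRing.closedPoint R))] (hL : PicF.IsInvertible L)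
    (hϖ : Irreducible ϖ) (t : Γ(L, (⊤ : X.Opens)))
    (h : ∀ x ∉ genOpen f ϖ, ¬ Amp.Gen (Amp.gm L x (U := ⊤) trivial t)) :
    ∃ t' : Γ(L, (⊤ : X.Opens)), ρ f ⊤ ϖ • t' = t := by
  have loc : ∀ x : X, ∃ (U : X.Opens) (s : Γ(L, U)), x ∈ U ∧ ρ f U ϖ • s = res L (le_top : U ≤ ⊤) t := by
    intro x
    obtain ⟨U, e, hxU, -, hU, he⟩ := Amp.exists_isGenerator hL (V := ⊤) (x := x) trivial
    obtain ⟨c, hc⟩ := Amp.exists_coeff he (res L (le_top : U ≤ ⊤) t)
    suffices ∃ c', c = ρ f U ϖ * c' by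
      obtain ⟨c', rfl⟩ := this
      exact ⟨U, c' • e, hxU, by rw [smul_smul]; exact hc⟩
    letI := (ρ f U).toAlgebra
    let m : PrimeSpectrum R := IsLocalRing.closedPoint R
    haveI : m.asIdeal.IsMaximal := IsLocalRing.maximalIdeal.isMaximal R
    have w₀ : hU.fromSpec ≫ f = Spec.map (CommRingCat.ofHom (algebraMap R Γ(X, U))) ≫ 𝟙 _ := by
      rw [Category.comp_id]
      conv_lhs => rw [← Pur25.toSpecΓ_gΓ f, ← Category.assoc, hU.fromSpec_toSpecΓ, ← Spec.map_comp]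
      rfl
    haveI : _root_.IsReduced (m.asIdeal.Fiber Γ(X, U)) := FibRing4.isReduced_fiberRing f hU.fromSpec (𝟙 _) w₀ m ‹_›
    haveI := DvrConn4.isReduced_quotient_of_fiber (B := Γ(X, U)) m
    have hmap : m.asIdeal.map (algebraMap R Γ(X, U)) = Ideal.span {ρ f U ϖ} := by
      show (IsLocalRing.maximalIdeal R).map _ = _
      rw [hϖ.maximalIdeal_eq, Ideal.map_span, Set.image_singleton]
      rfl
    have hrad : c ∈ (m.asIdeal.map (algebraMap R Γ(X, U))).radical := by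
      rw [Ideal.radical_eq_sInf, Ideal.mem_sInf]
      rintro P ⟨hle, hP⟩
      by_contra hcP
      let y := hU.fromSpec (⟨P, hP⟩ : PrimeSpectrum Γ(X, U))
      have hyb : ∀ b : Γ(X, U), y ∈ X.basicOpen b ↔ b ∉ P := fun b => by
        show (⟨P, hP⟩ : PrimeSpectrum Γ(X, U)) ∈ hU.fromSpec ⁻¹ᵁ X.basicOpen b ↔ _
        rw [hU.fromSpec_preimage_basicOpen]
        rfl
      have hyU : y ∈ U := X.basicOpen_le c ((hyb c).2 hcP)
      have hyD : y ∉ genOpen f ϖ := fun hD =>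
        (hyb _).1 ((basicOpen_ρ f U ϖ).ge ⟨hyU, hD⟩) (hle (hmap ▸ Ideal.mem_span_singleton_self _))
      refine h y hyD ?_
      rw [← Amp.gm_res (le_top : U ≤ ⊤) hyU, ← hc, Amp.gm_smul, (Amp.gen_of_isGenerator he hyU).ne_zero_smul,
        ← Scheme.mem_basicOpen X c y hyU]
      exact (hyb c).2 hcP
    rw [(Ideal.isRadical_iff_quotient_reduced _).2 ‹_› |>.radical, hmap, Ideal.mem_span_singleton] at hrad
    exact hrad
  choose U s hxU hs using loc
  have hagree : ∀ i j, res L (inf_le_left : U i ⊓ U j ≤ U i) (s i) = res L inf_le_right (s j) := by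
    intro i j
    refine sub_eq_zero.1 (eq_zero_of_smul f hL hϖ _ ?_)
    rw [smul_sub]
    conv_lhs => arg 1; rw [← ρ_res f (inf_le_left : U i ⊓ U j ≤ U i) ϖ, ← Amp.res_smul, hs, Amp.res_res]
    conv_lhs => arg 2; rw [← ρ_res f (inf_le_right : U i ⊓ U j ≤ U j) ϖ, ← Amp.res_smul, hs, Amp.res_res]
    exact sub_self _
  obtain ⟨T, hT, -⟩ := TopCat.Sheaf.existsUnique_gluing' ⟨_, L.isSheaf⟩ U ⊤
    (fun i => homOfLE le_top) (fun x _ => Opens.mem_iSup.2 ⟨x, hxU x⟩) s (fun i j => hagree i j)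
  refine ⟨T, Amp.eq_of_gm fun x hx => ?_⟩
  rw [← Amp.gm_res (le_top : U x ≤ ⊤) (hxU x), Amp.res_smul, ρ_res, show res L (le_top : U x ≤ ⊤) T = s x from hT x,
    hs, Amp.gm_res]

/-- Dividing by the uniformizer terminates. -/
theorem exists_gen_special [Flat f] [IsLocallyNoetherian X] [IsReduced (f.fiber (IsLocalRing.closedPoint R))]
    (hL : PicF.IsInvertible L) (hϖ : Irreducible ϖ) (t₀ : Γ(L, (⊤ : X.Opens)))
    (h₀ : ∀ x ∈ genOpen f ϖ, Amp.Gen (Amp.gm L x (U := ⊤) trivial t₀)) (x₀ : X) (hx₀ : x₀ ∉ genOpen f ϖ) :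
    ∃ t : Γ(L, (⊤ : X.Opens)), (∀ x ∈ genOpen f ϖ, Amp.Gen (Amp.gm L x (U := ⊤) trivial t)) ∧
      ∃ x ∉ genOpen f ϖ, Amp.Gen (Amp.gm L x (U := ⊤) trivial t) := by
  by_contra hcon
  have hdiv : ∀ m : ℕ, ∃ t : Γ(L, (⊤ : X.Opens)),
      (∀ x ∈ genOpen f ϖ, Amp.Gen (Amp.gm L x (U := ⊤) trivial t)) ∧ ρ f ⊤ ϖ ^ m • t = t₀ := by
    intro m
    induction m with
    | zero => exact ⟨t₀, h₀, by rw [pow_zero, one_smul]⟩
    | succ m ih =>
      obtain ⟨t, ht, htm⟩ := ih
      obtain ⟨t', ht'⟩ := exists_div f hL hϖ t fun x hx hg => hcon ⟨t, ht, x, hx, hg⟩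
      refine ⟨t', fun x hx => ?_, by rw [pow_succ, mul_smul, ht', htm]⟩
      have hu := (mem_basicOpen_ρ f x (W := ⊤) trivial).2 hx
      have e : Amp.gm L x (U := ⊤) trivial t' = ((hu.unit⁻¹ : (X.presheaf.stalk x)ˣ) : X.presheaf.stalk x) •
          Amp.gm L x (U := ⊤) trivial t := by
        rw [← ht', Amp.gm_smul, smul_smul, IsUnit.val_inv_mul, one_smul]
      rw [e, (ht x hx).ne_zero_smul]
      exact Units.isUnit _
  obtain ⟨U, e, hxU, -, -, he⟩ := Amp.exists_isGenerator hL (V := ⊤) (x := x₀) trivial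
  have hg := Amp.gen_of_isGenerator he hxU
  obtain ⟨α, hα⟩ := hg.2 (Amp.gm L x₀ (U := ⊤) trivial t₀)
  simp only at hα
  have hmem : X.presheaf.germ ⊤ x₀ trivial (ρ f ⊤ ϖ) ∈ IsLocalRing.maximalIdeal (X.presheaf.stalk x₀) :=
    (IsLocalRing.mem_maximalIdeal _).2 fun hu => hx₀ ((mem_basicOpen_ρ f x₀ (W := ⊤) trivial).1 hu)
  have hαm : ∀ m : ℕ, α ∈ IsLocalRing.maximalIdeal (X.presheaf.stalk x₀) ^ m := fun m => by
    obtain ⟨t, -, ht⟩ := hdiv m
    obtain ⟨β, hβ⟩ := hg.2 (Amp.gm L x₀ (U := ⊤) trivial t)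
    simp only at hβ
    have e1 : X.presheaf.germ ⊤ x₀ trivial (ρ f ⊤ ϖ) ^ m * β = α := hg.1 (by
      show _ • _ = α • _
      rw [hα, mul_smul, hβ, ← ht, Amp.gm_smul, map_pow])
    rw [← e1]
    exact Ideal.mul_mem_right _ _ (Ideal.pow_mem_pow hmem m)
  have hα0 : α = 0 := by
    rw [← Ideal.mem_bot, ← Ideal.iInf_pow_eq_bot_of_isLocalRing _ (IsLocalRing.maximalIdeal.isMaximal _).ne_top]
    exact Ideal.mem_iInf.2 hαm
  rw [hα0, zero_smul] at hα
  obtain ⟨W, hxW, i, i', hW⟩ := L.presheaf.germ_eq x₀ (U := ⊤) (V := ⊤) trivial trivial t₀ 0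
    (hα.symm.trans (map_zero _).symm)
  have hspec : RelMin.gen R ⤳ f x₀ :=
    (PrimeSpectrum.le_iff_specializes (RelMin.gen R : PrimeSpectrum R) (f x₀ : PrimeSpectrum R)).1 bot_le
  obtain ⟨y, hy, hyf⟩ := Flat.generalizingMap f hspec
  have hyD : y ∈ genOpen f ϖ := by
    show ϖ ∉ (f y : PrimeSpectrum R).asIdeal
    rw [show (f y : PrimeSpectrum R) = RelMin.gen R from hyf]
    exact fun h' => hϖ.ne_zero (Ideal.mem_bot.1 h')
  have hyW : y ∈ W := hy.mem_open W.isOpen hxW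
  have hzero : Amp.gm L y (U := ⊤) trivial t₀ = 0 := by
    rw [← Amp.gm_res (le_top : W ≤ ⊤) hyW,
      show res L (le_top : W ≤ ⊤) t₀ = 0 from hW.trans (map_zero _)]
    exact map_zero _
  have hG := h₀ y hyD
  rw [hzero] at hG
  exact one_ne_zero (hG.1 ((smul_zero (1 : X.presheaf.stalk y)).trans (smul_zero (0 : X.presheaf.stalk y)).symm))

end Groth.Agent.SemiTriv14
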