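import Groth.Agent.Lib.SemiTriv14.Divide
import Groth.Agent.Lib.CompDeg18.Basic
import Groth.Agent.Lib.CurveAmple18.Main
import Groth.Agent.Lib.NodalRed10.Scheme
import Groth.Agent.Lib.Snapper.Main
import Groth.Prelude.Def_ArSurf
import Groth.Prelude.Def_Curv2

/-!
# Invertible modules of degree zero on the components of the special fibre
-/

set_option autoImplicit false
set_option linter.style.haveILetI false
set_option linter.unusedSectionVars false
set_option backward.isDefEq.respectTransparency false
set_option maxHeartbeats 800000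

universe u

open CategoryTheory CategoryTheory.Limits AlgebraicGeometry TopologicalSpace Opposite

noncomputable section

namespace Groth.Agent.SemiTriv14

open Groth.Agent.M2 (IsGenerator res)

/-- On a connected curve, a map from the structure sheaf to an invertible module of nonpositive degree on
every component generates everywhere or nowhere. -/
theorem genLocus_eq_bot_or_top (k : Type u) [Field k] (X : Scheme.{u}) [X.Over (Spec (CommRingCat.of k))]
    [IsProper (X ↘ (Spec (CommRingCat.of k)))] [ConnectedSpace X] [IsNoetherian X]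
    (hdim : ∀ (C : Set X), C ∈ irreducibleComponents (X : Type u) → topologicalKrullDim C = 1)
    {L : X.Modules} (hL : PicF.IsInvertible L)
    (hdeg : ∀ Z : irreducibleComponents (X : Type u), @Curv2.deg k _ (CompDeg18.comp Z)
      ⟨CompDeg18.compι Z ≫ (X ↘ (Spec (CommRingCat.of k)))⟩
      ((Scheme.Modules.pullback (CompDeg18.compι Z)).obj L) 1 ≤ 0)
    (φ : Coh.structureModule X ⟶ L) : CohB1.genLocus L φ = ⊥ ∨ CohB1.genLocus L φ = ⊤ := by
  classical
  let G := CohB1.genLocus L φ
  have hC : ∀ C ∈ irreducibleComponents (X : Type u), ((C ∩ (G : Set X)).Nonempty) → C ⊆ G := by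
    intro C hC hne
    let Z : irreducibleComponents (X : Type u) := ⟨C, hC⟩
    let ι := CompDeg18.compι Z
    letI : (CompDeg18.comp Z).Over (Spec (CommRingCat.of k)) := ⟨ι ≫ (X ↘ (Spec (CommRingCat.of k)))⟩
    haveI : IsProper ((CompDeg18.comp Z) ↘ Spec (CommRingCat.of k)) :=
      inferInstanceAs (IsProper (ι ≫ (X ↘ (Spec (CommRingCat.of k)))))
    haveI : IsIntegral (CompDeg18.comp Z) := CompDeg18.isIntegral_comp Z
    have hd : topologicalKrullDim (CompDeg18.comp Z) ≤ 1 := by
      have h := ι.isClosedEmbedding.isEmbedding.toHomeomorph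
      have hr : Set.range ι = C := CompDeg18.range_compι Z
      rw [IsHomeomorph.topologicalKrullDim_eq _ h.isHomeomorph, hr, hdim C hC]
    let e := (PicLoc.pullbackStructureIso ι).symm
    have hψ := Amp.genLocus_pullback ι hL φ e
    obtain ⟨x, hxC, hxG⟩ := hne
    obtain ⟨w, rfl⟩ : x ∈ Set.range ι := by rw [CompDeg18.range_compι]; exact hxC
    have hL' := PicLoc.isInvertible_pullback ι hL
    have hne' : e.hom ≫ (Scheme.Modules.pullback ι).map φ ≠ 0 := fun h0 => by
      have hw : w ∈ CohB1.genLocus _ (e.hom ≫ (Scheme.Modules.pullback ι).map φ) := by rw [hψ]; exact hxG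
      rw [h0, Amp.mem_genLocus_iff hL'] at hw
      refine Amp.not_gen_zero hL' w ?_
      have h1 : Amp.gval (0 : Coh.structureModule (CompDeg18.comp Z) ⟶ (Scheme.Modules.pullback ι).obj L) = 0 := rfl
      rwa [h1, Amp.gm, map_zero] at hw
    obtain ⟨h1, h2⟩ := CurveAmple18.deg_section (k := k) hd hL' _ (CurveAmple18.gval_ne_zero hne')
    rw [Amp.secHom_gval] at h2
    haveI := h2 (le_antisymm (hdeg Z) h1)
    have htop := CurveAmple18.genLocus_eq_top_of_isIso (e.hom ≫ (Scheme.Modules.pullback ι).map φ)
    rw [hψ] at htop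
    intro y hy
    obtain ⟨v, rfl⟩ : y ∈ Set.range ι := by rw [CompDeg18.range_compι]; exact hy
    exact htop.ge (Set.mem_univ v)
  have hclosed : IsClosed (G : Set X) := by
    have hG : (G : Set X) = ⋃ C ∈ {C | C ∈ irreducibleComponents (X : Type u) ∧ (C ∩ (G : Set X)).Nonempty}, C := by
      refine subset_antisymm (fun x hx => ?_) (Set.iUnion₂_subset fun C hC' => hC C hC'.1 hC'.2)
      exact Set.mem_iUnion₂.mpr ⟨irreducibleComponent x, ⟨irreducibleComponent_mem_irreducibleComponents x,
        x, mem_irreducibleComponent, hx⟩, mem_irreducibleComponent⟩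
    rw [hG]
    exact (TopologicalSpace.NoetherianSpace.finite_irreducibleComponents.subset fun C h => h.1).isClosed_biUnion
      fun C h => isClosed_of_mem_irreducibleComponents C h.1
  rcases isClopen_iff.mp ⟨hclosed, G.2⟩ with h | h
  · exact Or.inl (TopologicalSpace.Opens.ext h)
  · exact Or.inr (TopologicalSpace.Opens.ext h)

/-- Irreducible components correspond under homeomorphisms. -/
theorem image_mem_irreducibleComponents {A B : Type*} [TopologicalSpace A] [TopologicalSpace B] (h : A ≃ₜ B)
    {Z : Set A} (hZ : Z ∈ irreducibleComponents A) : h '' Z ∈ irreducibleComponents B := by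
  rw [h.image_eq_preimage_symm]
  exact preimage_mem_irreducibleComponents hZ h.symm.isOpenEmbedding
    (by rw [h.symm.surjective.range_eq, Set.inter_univ]; exact hZ.1.nonempty)

/-- The degree of `curveDeg` is the degree of `Curv2`. -/
theorem curveDeg_eq_deg {k : Type u} [Field k] {C : Scheme.{u}} [C.Over (Spec (CommRingCat.of k))]
    [IsProper (C ↘ Spec (CommRingCat.of k))] (hd : topologicalKrullDim C ≤ 1)
    {M : C.Modules} (hM : PicF.IsInvertible M) : ArSurf.curveDeg k C M = Curv2.deg k C M 1 := by
  have hc := CurveAmple18.curveLike k C hd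
  haveI := hc.noetherian
  have hM' : Coh.IsCoh M := Snapper.isCoh_of_isInvertible hM
  have hO : Coh.IsCoh (Coh.structureModule C) :=
    Snapper.isCoh_of_isInvertible (PicLoc.isInvertible_structureModule _)
  rw [ArSurf.curveDeg, Curv2.deg, (hc.adm hM').euler_eq, (hc.adm hO).euler_eq]
  simp only [FGA.eulerCharLE, Finset.sum_range_succ, Finset.range_zero, Finset.sum_empty, pow_zero, pow_one,
    Nat.cast_one, one_mul, zero_add]
  ring

variable {R : Type u} [CommRing R] [IsDomain R] [IsDiscreteValuationRing R] {X : Scheme.{u}}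
  (f : X ⟶ Spec (CommRingCat.of R))

/-- The closed point of the base. -/
abbrev toSpec : Spec (CommRingCat.of (IsLocalRing.ResidueField R)) ⟶ Spec (CommRingCat.of R) :=
  Spec.map (CommRingCat.ofHom (IsLocalRing.residue R))

theorem range_toSpec : Set.range (toSpec (R := R)) = {IsLocalRing.closedPoint R} := by
  refine Set.eq_singleton_iff_unique_mem.2 ⟨⟨IsLocalRing.closedPoint _, ?_⟩, ?_⟩
  · exact IsLocalRing.comap_closedPoint (IsLocalRing.residue R)
  · rintro _ ⟨z, rfl⟩
    rw [Subsingleton.elim z (IsLocalRing.closedPoint _)]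
    exact IsLocalRing.comap_closedPoint (IsLocalRing.residue R)

/-- The special fibre and the fibre over the closed point are homeomorphic. -/
theorem exists_homeomorph_fiber :
    Nonempty ((pullback f (toSpec (R := R)) : Scheme.{u}) ≃ₜ f.fiber (IsLocalRing.closedPoint R)) := by
  haveI : IsClosedImmersion (toSpec (R := R)) :=
    IsClosedImmersion.spec_of_surjective _ IsLocalRing.residue_surjective
  have h1 : Set.range (pullback.fst f (toSpec (R := R))) = f ⁻¹' {IsLocalRing.closedPoint R} := by
    rw [Scheme.Pullback.range_fst, range_toSpec]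
  exact ⟨((pullback.fst f (toSpec (R := R))).isEmbedding.toHomeomorph.trans
    (Homeomorph.setCongr h1)).trans (f.fiberHomeo (IsLocalRing.closedPoint R)).symm⟩

theorem dim_component (hf : Curv2.IsNodalFamily f) (C : Set (pullback f (toSpec (R := R)) : Scheme.{u}))
    (hC : C ∈ irreducibleComponents ((pullback f (toSpec (R := R)) : Scheme.{u}) : Type u)) :
    topologicalKrullDim C = 1 := by
  obtain ⟨h⟩ := exists_homeomorph_fiber f
  rw [IsHomeomorph.topologicalKrullDim_eq _ (h.image C).isHomeomorph]
  exact (hf.2.2 _).1 _ (image_mem_irreducibleComponents h hC)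

theorem isReduced_fiber [LocallyOfFiniteType f] (hf : Curv2.IsNodalFamily f) :
    IsReduced (f.fiber (IsLocalRing.closedPoint R)) := by
  letI : (f.fiber (IsLocalRing.closedPoint R)).Over
      (Spec (CommRingCat.of ((Spec (CommRingCat.of R)).residueField (IsLocalRing.closedPoint R)))) :=
    ⟨f.fiberToSpecResidueField (IsLocalRing.closedPoint R)⟩
  haveI : LocallyOfFiniteType ((f.fiber (IsLocalRing.closedPoint R)) ↘
      Spec (CommRingCat.of ((Spec (CommRingCat.of R)).residueField (IsLocalRing.closedPoint R)))) :=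
    inferInstanceAs (LocallyOfFiniteType (pullback.snd f _))
  have h := NodalRed10.geometricallyReduced_of_atWorstNodal _ (hf.2.2 (IsLocalRing.closedPoint R)).2
  exact h.geometrically_isReduced (𝟙 _) (𝟙 _) _
    (IsPullback.id_horiz ((f.fiber (IsLocalRing.closedPoint R)) ↘
      Spec (CommRingCat.of ((Spec (CommRingCat.of R)).residueField (IsLocalRing.closedPoint R)))))

/-- A section generating at one point of the special fibre generates on the whole special fibre. -/
theorem gen_special [IsProper f] (hf : Curv2.IsNodalFamily f)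
    [ConnectedSpace (pullback f (toSpec (R := R)) : Scheme.{u})] {L : X.Modules} (hL : PicF.IsInvertible L)
    (hdeg : ∀ Γ : ArSurf.VertComp R (Over.mk f), ArSurf.inter R (Over.mk f) L Γ = 0)
    (t : Γ(L, (⊤ : X.Opens))) {x y : X} (hx : f x = IsLocalRing.closedPoint R)
    (hxt : Amp.Gen (Amp.gm L x (U := ⊤) trivial t)) (hy : f y = IsLocalRing.closedPoint R) :
    Amp.Gen (Amp.gm L y (U := ⊤) trivial t) := by
  haveI : IsClosedImmersion (toSpec (R := R)) :=
    IsClosedImmersion.spec_of_surjective _ IsLocalRing.residue_surjective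
  let F : Scheme.{u} := pullback f (toSpec (R := R))
  let ι : F ⟶ X := pullback.fst f (toSpec (R := R))
  let q : F ⟶ Spec (CommRingCat.of (IsLocalRing.ResidueField R)) := pullback.snd f (toSpec (R := R))
  letI : F.Over (Spec (CommRingCat.of (IsLocalRing.ResidueField R))) := ⟨q⟩
  haveI : IsProper (F ↘ Spec (CommRingCat.of (IsLocalRing.ResidueField R))) := inferInstanceAs (IsProper q)
  haveI : IsNoetherian F := CohFound.isNoetherian_of_isProper q
  haveI : ConnectedSpace F := ‹ConnectedSpace (pullback f (toSpec (R := R)) : Scheme.{u})›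
  have hrange : Set.range ι = f ⁻¹' {IsLocalRing.closedPoint R} := by
    rw [Scheme.Pullback.range_fst, range_toSpec]
  have hL' := PicLoc.isInvertible_pullback ι hL
  have hdeg' : ∀ Z : irreducibleComponents (F : Type u), @Curv2.deg (IsLocalRing.ResidueField R) _ (CompDeg18.comp Z)
      ⟨CompDeg18.compι Z ≫ (F ↘ Spec (CommRingCat.of (IsLocalRing.ResidueField R)))⟩
      ((Scheme.Modules.pullback (CompDeg18.compι Z)).obj ((Scheme.Modules.pullback ι).obj L)) 1 ≤ 0 := by
    intro Z
    haveI := CompDeg18.isIntegral_comp Z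
    have hd : topologicalKrullDim (CompDeg18.comp Z) = 1 := by
      rw [IsHomeomorph.topologicalKrullDim_eq _
        (CompDeg18.compι Z).isClosedEmbedding.isEmbedding.toHomeomorph.isHomeomorph, CompDeg18.range_compι,
        dim_component f hf _ Z.2]
    let Γ : ArSurf.VertComp R (Over.mk f) :=
      { curve := Over.mk (CompDeg18.compι Z ≫ q)
        ι := CompDeg18.compι Z ≫ ι
        isClosedImmersion := inferInstanceAs (IsClosedImmersion (CompDeg18.compι Z ≫ pullback.fst f (toSpec (R := R))))
        isIntegral := inferInstanceAs (IsIntegral (CompDeg18.comp Z))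
        dim_eq := hd
        w := by
          show (CompDeg18.compι Z ≫ ι) ≫ f = (CompDeg18.compι Z ≫ q) ≫ toSpec (R := R)
          rw [Category.assoc, Category.assoc]
          exact congrArg (CompDeg18.compι Z ≫ ·) pullback.condition }
    letI : (CompDeg18.comp Z).Over (Spec (CommRingCat.of (IsLocalRing.ResidueField R))) :=
      ⟨CompDeg18.compι Z ≫ q⟩
    haveI : IsProper ((CompDeg18.comp Z) ↘ Spec (CommRingCat.of (IsLocalRing.ResidueField R))) :=
      inferInstanceAs (IsProper (CompDeg18.compι Z ≫ q))
    have h1 : ArSurf.curveDeg (IsLocalRing.ResidueField R) (CompDeg18.comp Z)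
        ((Scheme.Modules.pullback (CompDeg18.compι Z ≫ ι)).obj L) = 0 := hdeg Γ
    rw [curveDeg_eq_deg hd.le (PicLoc.isInvertible_pullback _ hL)] at h1
    refine le_of_eq (Eq.trans ?_ h1)
    exact CurveCoh17.deg_iso ((Scheme.Modules.pullbackComp (CompDeg18.compι Z) ι).app L)
  let e := (PicLoc.pullbackStructureIso ι).symm
  have hψ := Amp.genLocus_pullback ι hL (M1.secHom t) e
  have hmem : ∀ z : F, z ∈ CohB1.genLocus _ (e.hom ≫ (Scheme.Modules.pullback ι).map (M1.secHom t)) ↔
      Amp.Gen (Amp.gm L (ι z) (U := ⊤) trivial t) := fun z => by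
    rw [hψ]
    refine (Amp.mem_genLocus_iff hL (M1.secHom t) (x := ι z)).trans ?_
    rw [Amp.gval_secHom]
  obtain ⟨w, rfl⟩ : x ∈ Set.range ι := by rw [hrange]; exact hx
  obtain ⟨v, rfl⟩ : y ∈ Set.range ι := by rw [hrange]; exact hy
  rcases genLocus_eq_bot_or_top (IsLocalRing.ResidueField R) F (dim_component f hf) hL' hdeg'
    (e.hom ≫ (Scheme.Modules.pullback ι).map (M1.secHom t)) with h | h
  · have hw := (hmem w).2 hxt
    rw [h] at hw
    exact (Opens.mem_bot.1 hw).elim
  · exact (hmem v).1 (by rw [h]; trivial)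

end Groth.Agent.SemiTriv14
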